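import Mathlib
import Cfsg.Prelude.Def_PLocal
import Cfsg.Prelude.Def_Transfer
import Cfsg.Agent.S0519
import Cfsg.Agent.Lib.Helper21.PGroup
import Cfsg.Agent.Lib.Helper5.CycSelf

/-!
Structure of a `p`-group `G` with a cyclic normal subgroup `⟨a⟩` that is its own centralizer,
relative to the centralizer `M` of `a ^ p`.
-/

namespace Cfsg.Agent.Lib.Helper5

section CycSelfTwo

variable {G : Type*} [Group G] [Finite G] {p : ℕ} [Fact p.Prime]

/-- Conjugation acts on a cyclic normal subgroup by a power map. -/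
theorem cyc_conj_power (a : G) (hnorm : ∀ g : G, g * a * g⁻¹ ∈ Subgroup.zpowers a) (g : G) :
    ∃ r : ℕ, ∀ x ∈ Subgroup.zpowers a, g * x * g⁻¹ = x ^ r := by
  have h1 := hnorm g
  obtain ⟨r, hr⟩ := (Submonoid.mem_powers_iff _ _).mp (mem_powers_iff_mem_zpowers.mpr h1)
  refine ⟨r, fun x hx => ?_⟩
  obtain ⟨i, rfl⟩ := Subgroup.mem_zpowers_iff.mp hx
  rw [← conj_zpow, ← hr, ← zpow_natCast, ← zpow_natCast, ← zpow_mul, ← zpow_mul, mul_comm]

/-- Iterating a power action. -/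
theorem cyc_conj_pow_iter (N : Subgroup G) (z : G) (ρ : ℕ)
    (hz : ∀ x ∈ N, z * x * z⁻¹ = x ^ ρ) (x : G) (hx : x ∈ N) (k : ℕ) :
    z ^ k * x * (z ^ k)⁻¹ = x ^ (ρ ^ k) := by
  induction k generalizing x with
  | zero => simp
  | succ k ih =>
    have e : z ^ (k + 1) * x * (z ^ (k + 1))⁻¹ = z ^ k * (z * x * z⁻¹) * (z ^ k)⁻¹ := by
      rw [pow_succ]
      obtain ⟨Z, hZ⟩ : ∃ Z, Z = z ^ k := ⟨_, rfl⟩
      rw [← hZ]
      group
    rw [e, hz x hx, ih (x ^ ρ) (N.pow_mem hx ρ), ← pow_mul, pow_succ, mul_comm]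

/-- The subgroup of order `p` of the cyclic normal subgroup is central and contains every
element of order dividing `p`. -/
theorem cyc_omega (hG : IsPGroup p G) (a : G) (n : ℕ) (hoa : orderOf a = p ^ n) (hn : 1 ≤ n)
    (hnorm : ∀ g : G, g * a * g⁻¹ ∈ Subgroup.zpowers a) (w : G) (hw : w = a ^ (orderOf a / p)) :
    orderOf w = p ∧ w ∈ Subgroup.zpowers a ∧
      (∀ d ∈ Subgroup.zpowers w, ∀ g : G, g * d = d * g) ∧
      (∀ d ∈ Subgroup.zpowers w, d ^ p = 1) ∧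
      (∀ u ∈ Subgroup.zpowers a, u ^ p = 1 → u ∈ Subgroup.zpowers w) := by
  have hp : p.Prime := Fact.out
  have hdvd : p ∣ orderOf a := by rw [hoa]; exact dvd_pow_self p (by omega)
  have hwo : orderOf w = p := by
    rw [hw]; exact orderOf_pow_orderOf_div (orderOf_pos a).ne' hdvd
  have hwA : w ∈ Subgroup.zpowers a := by
    rw [hw]; exact Subgroup.pow_mem _ (Subgroup.mem_zpowers a) _
  have hmem : ∀ u ∈ Subgroup.zpowers a, u ^ p = 1 → u ∈ Subgroup.zpowers w :=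
    fun u hu hup => Cfsg.Agent.S0519.mem_zpowers_of_order a p hu hwA hwo hup
  have hNn : (Subgroup.zpowers w).Normal := by
    constructor
    intro x hx g
    obtain ⟨r, hr⟩ := cyc_conj_power a hnorm g
    have hxA : x ∈ Subgroup.zpowers a := (Subgroup.zpowers_le.mpr hwA) hx
    rw [hr x hxA]
    exact Subgroup.pow_mem _ hx r
  have hcard : Nat.card (Subgroup.zpowers w) = p := by rw [Nat.card_zpowers, hwo]
  have hcen := Cfsg.Agent.Lib.Helper21.le_center_of_normal_of_card_eq_prime hG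
    (Subgroup.zpowers w) hcard
  refine ⟨hwo, hwA, fun d hd g => ?_, fun d hd => ?_, hmem⟩
  · exact Subgroup.mem_center_iff.mp (hcen hd) g
  · obtain ⟨k, rfl⟩ := Subgroup.mem_zpowers_iff.mp hd
    rw [← zpow_natCast, ← zpow_mul, mul_comm, zpow_mul, zpow_natCast, ← hwo, pow_orderOf_eq_one,
      one_zpow]

/-- The commutator homomorphism from `M = C_G(a ^ p)` to the subgroup of order `p`. -/
theorem cyc_hom (a : G)
    (hnorm : ∀ g : G, g * a * g⁻¹ ∈ Subgroup.zpowers a)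
    (hC : ∀ g : G, g * a = a * g → g ∈ Subgroup.zpowers a)
    (M : Subgroup G) (hM : ∀ g, g ∈ M ↔ g * a ^ p = a ^ p * g) (w : G)
    (hwc : ∀ d ∈ Subgroup.zpowers w, ∀ g : G, g * d = d * g)
    (hmem : ∀ u ∈ Subgroup.zpowers a, u ^ p = 1 → u ∈ Subgroup.zpowers w) :
    (∀ g ∈ M, ∀ u ∈ Subgroup.zpowers a, g * u * g⁻¹ * u⁻¹ ∈ Subgroup.zpowers w) ∧
      ∃ f : ↥M →* ↥(Subgroup.zpowers w), ∀ g : ↥M, f g = 1 ↔ (g : G) ∈ Subgroup.zpowers a := by
  have h1 : ∀ g ∈ M, ∀ u ∈ Subgroup.zpowers a, g * u * g⁻¹ * u⁻¹ ∈ Subgroup.zpowers w := by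
    intro g hg u hu
    obtain ⟨r, hr⟩ := cyc_conj_power a hnorm g
    have hgp : g * a ^ p = a ^ p * g := (hM g).mp hg
    have hup : g * u ^ p * g⁻¹ = u ^ p := by
      obtain ⟨i, rfl⟩ := Subgroup.mem_zpowers_iff.mp hu
      have hc : Commute g ((a ^ i) ^ p) := by
        have e : (a ^ i) ^ p = (a ^ p) ^ i := by
          rw [← zpow_natCast, ← zpow_mul, mul_comm, zpow_mul, zpow_natCast]
        rw [e]
        exact (show Commute g (a ^ p) from hgp).zpow_right i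
      rw [hc.eq, mul_inv_cancel_right]
    have hd : g * u * g⁻¹ * u⁻¹ = u ^ r * u⁻¹ := by rw [hr u hu]
    rw [hd]
    apply hmem
    · exact Subgroup.mul_mem _ (Subgroup.pow_mem _ hu r) (Subgroup.inv_mem _ hu)
    · have hcomm : Commute (u ^ r) u⁻¹ := ((Commute.refl u).pow_left r).inv_right
      rw [hcomm.mul_pow, ← pow_mul, mul_comm r p, pow_mul,
        ← hr (u ^ p) (Subgroup.pow_mem _ hu p), hup, inv_pow, mul_inv_cancel]
  have hfm : ∀ g : ↥M, (g : G) * a * (g : G)⁻¹ * a⁻¹ ∈ Subgroup.zpowers w :=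
    fun g => h1 g g.2 a (Subgroup.mem_zpowers a)
  have hmulf : ∀ x y : ↥M,
      (⟨((x * y : ↥M) : G) * a * ((x * y : ↥M) : G)⁻¹ * a⁻¹, hfm (x * y)⟩ :
        ↥(Subgroup.zpowers w)) =
      ⟨(x : G) * a * (x : G)⁻¹ * a⁻¹, hfm x⟩ * ⟨(y : G) * a * (y : G)⁻¹ * a⁻¹, hfm y⟩ := by
    intro x y
    apply Subtype.ext
    obtain ⟨d, hd⟩ : ∃ d, d = (y : G) * a * (y : G)⁻¹ * a⁻¹ := ⟨_, rfl⟩
    have hdc : ∀ g : G, g * d = d * g := by
      intro g
      rw [hd]; exact hwc _ (hfm y) g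
    have e1 : (y : G) * a * (y : G)⁻¹ = d * a := by rw [hd]; group
    show (x : G) * (y : G) * a * ((x : G) * (y : G))⁻¹ * a⁻¹ =
      ((x : G) * a * (x : G)⁻¹ * a⁻¹) * ((y : G) * a * (y : G)⁻¹ * a⁻¹)
    rw [← hd]
    calc (x : G) * (y : G) * a * ((x : G) * (y : G))⁻¹ * a⁻¹
        = (x : G) * ((y : G) * a * (y : G)⁻¹) * (x : G)⁻¹ * a⁻¹ := by group
      _ = (x : G) * (d * a) * (x : G)⁻¹ * a⁻¹ := by rw [e1]
      _ = ((x : G) * d) * a * (x : G)⁻¹ * a⁻¹ := by group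
      _ = (d * (x : G)) * a * (x : G)⁻¹ * a⁻¹ := by rw [hdc]
      _ = d * ((x : G) * a * (x : G)⁻¹ * a⁻¹) := by group
      _ = ((x : G) * a * (x : G)⁻¹ * a⁻¹) * d := (hdc _).symm
  obtain ⟨f, hf⟩ : ∃ f : ↥M →* ↥(Subgroup.zpowers w),
      ∀ g : ↥M, ((f g : ↥(Subgroup.zpowers w)) : G) = (g : G) * a * (g : G)⁻¹ * a⁻¹ :=
    ⟨MonoidHom.mk' (fun g : ↥M =>
      (⟨(g : G) * a * (g : G)⁻¹ * a⁻¹, hfm g⟩ : ↥(Subgroup.zpowers w))) hmulf, fun g => rfl⟩
  refine ⟨h1, f, fun g => ?_⟩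
  constructor
  · intro h
    apply hC
    have h2 : (g : G) * a * (g : G)⁻¹ * a⁻¹ = 1 := by rw [← hf g, h]; rfl
    calc (g : G) * a = ((g : G) * a * (g : G)⁻¹ * a⁻¹) * a * (g : G) := by group
      _ = a * (g : G) := by rw [h2, one_mul]
  · intro h
    apply Subtype.ext
    rw [hf g]
    obtain ⟨i, hi⟩ := Subgroup.mem_zpowers_iff.mp h
    rw [← hi]
    have hc : Commute (a ^ i) a := (Commute.refl a).zpow_left i
    rw [hc.eq, mul_inv_cancel_right, mul_inv_cancel]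
    rfl

/-- Basic facts on `M = C_G(a ^ p)`. -/
theorem cyc_facts (hG : IsPGroup p G) (a : G) (n : ℕ) (hoa : orderOf a = p ^ n) (hn : 1 ≤ n)
    (hnorm : ∀ g : G, g * a * g⁻¹ ∈ Subgroup.zpowers a)
    (hC : ∀ g : G, g * a = a * g → g ∈ Subgroup.zpowers a)
    (M : Subgroup G) (hM : ∀ g, g ∈ M ↔ g * a ^ p = a ^ p * g) (w : G)
    (hw : w = a ^ (orderOf a / p)) :
    Subgroup.zpowers a ≤ M ∧
      (∀ g ∈ M, ∀ u ∈ Subgroup.zpowers a, g * u * g⁻¹ * u⁻¹ ∈ Subgroup.zpowers w) ∧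
      (Subgroup.zpowers a).relIndex M ∣ p ∧
      (∀ x ∈ M, x ∉ Subgroup.zpowers a → ∀ y ∈ M,
        ∃ j : ℤ, y * (x ^ j)⁻¹ ∈ Subgroup.zpowers a) ∧
      (∀ x ∈ M, ∀ y ∈ M, y⁻¹ * x⁻¹ * y * x ∈ Subgroup.zpowers w) ∧
      (∀ x ∈ M, x ∉ Subgroup.zpowers a → ∃ s ∈ Subgroup.zpowers a, x ^ p = s ^ p) := by
  have hp : p.Prime := Fact.out
  obtain ⟨hwo, hwA, hwc, hwp, hmem⟩ := cyc_omega hG a n hoa hn hnorm w hw
  obtain ⟨h1, f, hker⟩ := cyc_hom a hnorm hC M hM w hwc hmem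
  have hcardw : Nat.card ↥(Subgroup.zpowers w) = p := by rw [Nat.card_zpowers, hwo]
  have hUM : Subgroup.zpowers a ≤ M := by
    rw [Subgroup.zpowers_le, hM]
    exact ((Commute.refl a).pow_right p).eq
  have hkerU : (Subgroup.zpowers a).subgroupOf M = f.ker := by
    ext g
    rw [Subgroup.mem_subgroupOf, MonoidHom.mem_ker, hker]
  have hrel : (Subgroup.zpowers a).relIndex M ∣ p := by
    unfold Subgroup.relIndex
    rw [hkerU, Subgroup.index_ker]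
    have h2 := Subgroup.card_subgroup_dvd_card f.range
    rwa [hcardw] at h2
  have h5 : ∀ x ∈ M, x ∉ Subgroup.zpowers a → ∀ y ∈ M,
      ∃ j : ℤ, y * (x ^ j)⁻¹ ∈ Subgroup.zpowers a := by
    intro x hx hxU y hy
    have hfx : f ⟨x, hx⟩ ≠ 1 := fun h => hxU ((hker ⟨x, hx⟩).mp h)
    have h2 : f ⟨y, hy⟩ ∈ Subgroup.zpowers (f ⟨x, hx⟩) := mem_zpowers_of_prime_card hcardw hfx
    obtain ⟨j, hj⟩ := Subgroup.mem_zpowers_iff.mp h2
    refine ⟨j, ?_⟩
    have h3 : f (⟨y, hy⟩ * (⟨x, hx⟩ ^ j)⁻¹) = 1 := by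
      rw [map_mul, map_inv, map_zpow, hj, mul_inv_cancel]
    have h4 := (hker _).mp h3
    simpa using h4
  have h6 : ∀ x ∈ M, ∀ y ∈ M, y⁻¹ * x⁻¹ * y * x ∈ Subgroup.zpowers w := by
    intro x hx y hy
    by_cases hxU : x ∈ Subgroup.zpowers a
    · have h2 := h1 y⁻¹ (M.inv_mem hy) x⁻¹ (Subgroup.inv_mem _ hxU)
      rwa [inv_inv, inv_inv] at h2
    · obtain ⟨j, hj⟩ := h5 x hx hxU y hy
      obtain ⟨Q, hQ⟩ : ∃ Q, Q = x ^ j := ⟨_, rfl⟩
      rw [← hQ] at hj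
      obtain ⟨u, hu⟩ : ∃ u, u = y * Q⁻¹ := ⟨_, rfl⟩
      rw [← hu] at hj
      have hy' : y = u * Q := by rw [hu, inv_mul_cancel_right]
      have hQx : Q * x = x * Q := by rw [hQ]; exact ((Commute.refl x).zpow_left j).eq
      have hδ := h1 x⁻¹ (M.inv_mem hx) u hj
      rw [inv_inv] at hδ
      obtain ⟨δ, hδdef⟩ : ∃ δ, δ = x⁻¹ * u * x * u⁻¹ := ⟨_, rfl⟩
      rw [← hδdef] at hδ
      have hδc : ∀ g : G, g * δ = δ * g := hwc δ hδ
      have e : y⁻¹ * x⁻¹ * y * x = δ := by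
        rw [hy']
        calc (u * Q)⁻¹ * x⁻¹ * (u * Q) * x = Q⁻¹ * u⁻¹ * x⁻¹ * u * (Q * x) := by group
          _ = Q⁻¹ * u⁻¹ * x⁻¹ * u * (x * Q) := by rw [hQx]
          _ = Q⁻¹ * u⁻¹ * (x⁻¹ * u * x * u⁻¹) * u * Q := by group
          _ = Q⁻¹ * u⁻¹ * δ * u * Q := by rw [hδdef]
          _ = Q⁻¹ * (u⁻¹ * δ) * u * Q := by group
          _ = Q⁻¹ * (δ * u⁻¹) * u * Q := by rw [hδc]
          _ = (Q⁻¹ * δ) * Q := by group
          _ = δ * Q⁻¹ * Q := by rw [hδc]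
          _ = δ := by group
      rw [e]; exact hδ
  have h7 : ∀ x ∈ M, x ∉ Subgroup.zpowers a → ∃ s ∈ Subgroup.zpowers a, x ^ p = s ^ p := by
    intro x hx hxU
    have hxp : x ^ p ∈ Subgroup.zpowers a := by
      have h2 : f (⟨x, hx⟩ ^ p) = 1 := by
        rw [map_pow]
        have h3 := pow_card_eq_one' (G := ↥(Subgroup.zpowers w)) (x := f ⟨x, hx⟩)
        rwa [hcardw] at h3
      have h4 := (hker _).mp h2
      simpa using h4
    obtain ⟨m, hm⟩ := (Submonoid.mem_powers_iff _ _).mp (mem_powers_iff_mem_zpowers.mpr hxp)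
    by_cases hpm : p ∣ m
    · obtain ⟨k, rfl⟩ := hpm
      exact ⟨a ^ k, Subgroup.pow_mem _ (Subgroup.mem_zpowers a) k, by
        rw [← hm, ← pow_mul, mul_comm]⟩
    · exfalso
      apply hxU
      apply hC
      have hcop : Nat.Coprime m (p ^ n) :=
        Nat.Coprime.pow_right n ((Nat.Prime.coprime_iff_not_dvd hp).mpr hpm).symm
      obtain ⟨k, -, hk⟩ := Nat.exists_mul_mod_eq_one_of_coprime hcop
        (Nat.one_lt_pow (by omega) hp.one_lt)
      have h3 : (x ^ p) ^ k = a := by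
        rw [← hm, ← pow_mul, ← pow_mod_orderOf, hoa, hk, pow_one]
      have h4 : Commute x ((x ^ p) ^ k) := ((Commute.refl x).pow_right p).pow_right k
      rw [h3] at h4
      exact h4.eq
  exact ⟨hUM, h1, hrel, h5, h6, h7⟩

/-- The conclusion on `Ω₁(M)` once an element of order `p` in `M ∖ ⟨a⟩` is known and the
elements of order dividing `p` in `M` are closed under multiplication. -/
theorem cyc_second_alt (hG : IsPGroup p G) (a : G) (n : ℕ) (hoa : orderOf a = p ^ n) (hn : 1 ≤ n)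
    (hnorm : ∀ g : G, g * a * g⁻¹ ∈ Subgroup.zpowers a)
    (hC : ∀ g : G, g * a = a * g → g ∈ Subgroup.zpowers a)
    (M : Subgroup G) (hM : ∀ g, g ∈ M ↔ g * a ^ p = a ^ p * g)
    (t : G) (htM : t ∈ M) (htU : t ∉ Subgroup.zpowers a) (htp : t ^ p = 1)
    (hmul : ∀ x y : G, x ∈ M → y ∈ M → x ^ p = 1 → y ^ p = 1 → (x * y) ^ p = 1) :
    (Subgroup.zpowers a).relIndex M = p ∧ Cfsg.IsElementaryAbelian p (Cfsg.omegaOne p M) ∧
      Nat.card ↥(Cfsg.omegaOne p M) = p ^ 2 ∧ (Cfsg.omegaOne p M).Characteristic := by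
  have hp : p.Prime := Fact.out
  obtain ⟨w, hw⟩ : ∃ w, w = a ^ (orderOf a / p) := ⟨_, rfl⟩
  obtain ⟨hwo, hwA, hwc, hwp, hmem⟩ := cyc_omega hG a n hoa hn hnorm w hw
  obtain ⟨h1, f, hker⟩ := cyc_hom a hnorm hC M hM w hwc hmem
  obtain ⟨hUM, -, hrel, -, -, -⟩ := cyc_facts hG a n hoa hn hnorm hC M hM w hw
  have hcardw : Nat.card ↥(Subgroup.zpowers w) = p := by rw [Nat.card_zpowers, hwo]
  have hrelp : (Subgroup.zpowers a).relIndex M = p := by
    rcases (Nat.dvd_prime hp).mp hrel with h | h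
    · exfalso
      exact htU (Subgroup.relIndex_eq_one.mp h htM)
    · exact h
  obtain ⟨E, hE⟩ : ∃ E : Subgroup G, ∀ x, x ∈ E ↔ x ∈ M ∧ x ^ p = 1 :=
    ⟨{ carrier := {x | x ∈ M ∧ x ^ p = 1}
       mul_mem' := fun {x y} hx hy => ⟨M.mul_mem hx.1 hy.1, hmul x y hx.1 hy.1 hx.2 hy.2⟩
       one_mem' := ⟨M.one_mem, one_pow p⟩
       inv_mem' := fun {x} hx => ⟨M.inv_mem hx.1, by rw [inv_pow, hx.2, inv_one]⟩ },
      fun x => Iff.rfl⟩
  have hΩ : Cfsg.omegaOne p M = E := by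
    unfold Cfsg.omegaOne
    have hset : {x : G | x ∈ M ∧ x ^ p = 1} = (E : Set G) := by
      ext x; exact (hE x).symm
    rw [hset, Subgroup.closure_eq]
  rw [hΩ]
  have hEM : E ≤ M := fun x hx => ((hE x).mp hx).1
  have hEexp : ∀ x ∈ E, x ^ p = 1 := fun x hx => ((hE x).mp hx).2
  obtain ⟨fE, hfE⟩ : ∃ fE : ↥E →* ↥(Subgroup.zpowers w),
      fE = f.comp (Subgroup.inclusion hEM) := ⟨_, rfl⟩
  have hwE : Subgroup.zpowers w ≤ E := by
    rw [Subgroup.zpowers_le, hE]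
    exact ⟨hUM hwA, hwp w (Subgroup.mem_zpowers w)⟩
  have hkerE : fE.ker = (Subgroup.zpowers w).subgroupOf E := by
    ext x
    rw [MonoidHom.mem_ker, Subgroup.mem_subgroupOf, hfE, MonoidHom.comp_apply, hker]
    constructor
    · intro h
      exact hmem _ h (hEexp x x.2)
    · intro h
      exact (Subgroup.zpowers_le.mpr hwA) h
  have hcardker : Nat.card fE.ker = p := by
    rw [hkerE, Nat.card_congr (Subgroup.subgroupOfEquivOfLe hwE).toEquiv, hcardw]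
  have hrange : Nat.card fE.range = p := by
    have h2 := Subgroup.card_subgroup_dvd_card fE.range
    rw [hcardw] at h2
    rcases (Nat.dvd_prime hp).mp h2 with h | h
    · exfalso
      have htE : t ∈ E := (hE t).mpr ⟨htM, htp⟩
      have h3 : fE ⟨t, htE⟩ ∈ fE.range := ⟨_, rfl⟩
      rw [Subgroup.card_eq_one.mp h, Subgroup.mem_bot, hfE, MonoidHom.comp_apply] at h3
      exact htU ((hker _).mp h3)
    · exact h
  have hcardE : Nat.card E = p ^ 2 := by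
    have h2 := Subgroup.card_mul_index fE.ker
    rw [Subgroup.index_ker, hcardker, hrange] at h2
    rw [← h2, pow_two]
  have hEc : IsMulCommutative E := IsPGroup.isMulCommutative_of_card_eq_prime_sq hcardE
  have hMn : M.Normal := by
    constructor
    intro x hx g
    rw [hM] at hx ⊢
    obtain ⟨r, hr⟩ := cyc_conj_power a hnorm g⁻¹
    have h2 := hr (a ^ p) (Subgroup.pow_mem _ (Subgroup.mem_zpowers a) p)
    rw [inv_inv] at h2
    obtain ⟨A, hA⟩ : ∃ A, A = a ^ p := ⟨_, rfl⟩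
    rw [← hA] at hx h2 ⊢
    have h3 : x * (g⁻¹ * A * g) = (g⁻¹ * A * g) * x := by
      rw [h2]; exact ((show Commute x A from hx).pow_right r).eq
    calc g * x * g⁻¹ * A = g * (x * (g⁻¹ * A * g)) * g⁻¹ := by group
      _ = g * ((g⁻¹ * A * g) * x) * g⁻¹ := by rw [h3]
      _ = A * (g * x * g⁻¹) := by group
  have hEn : E.Normal := by
    constructor
    intro x hx g
    rw [hE] at hx ⊢
    exact ⟨hMn.conj_mem x hx.1 g, by rw [conj_pow, hx.2, mul_one, mul_inv_cancel]⟩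
  refine ⟨hrelp, ⟨hEc, hEexp⟩, hcardE, ?_⟩
  apply characteristic_of_unique_sq E hEn hcardE hEexp
  intro E' hE'n hE'card hE'exp e he
  rw [hE]
  exact ⟨(hM e).mpr (pow_commute_of_normal_sq hG E' hE'card hE'exp a e he).symm, hE'exp e he⟩

end CycSelfTwo

end Cfsg.Agent.Lib.Helper5
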