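import Mathlib
import Cfsg.Prelude.Def_TwoFusion

set_option autoImplicit false

namespace Cfsg.Agent.Lib.Helper5

open scoped Pointwise

/-- In a finite cyclic group there is at most one element of order 2. -/
theorem iso_unique_involution {A : Type*} [Group A] [Finite A] [IsCyclic A] (a b : A)
    (ha : orderOf a = 2) (hb : orderOf b = 2) : a = b := by
  classical
  have : Fintype A := Fintype.ofFinite A
  have h2 : 2 ∣ Fintype.card A := by
    rw [← ha]; exact orderOf_dvd_card
  have hcard := IsCyclic.card_orderOf_eq_totient (α := A) h2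
  rw [Nat.totient_two] at hcard
  have hle := Finset.card_le_one.mp hcard.le
  exact hle a (by simp [ha]) b (by simp [hb])

theorem iso_mem_smul_sylow {G : Type*} [Group G] {p : ℕ} (g : G) (P : Sylow p G) (x : G) :
    x ∈ ((g • P : Sylow p G) : Subgroup G) ↔ g⁻¹ * x * g ∈ (P : Subgroup G) := by
  rw [Sylow.coe_subgroup_smul, Subgroup.mem_pointwise_smul_iff_inv_smul_mem]
  have h7 : (MulAut.conj g)⁻¹ • x = g⁻¹ * x * g := by simp [MulAut.smul_def, mul_assoc]
  rw [h7]

theorem iso_commute_of_conj {G : Type*} [Group G] {x z : G} (h : x * z * x⁻¹ = z) :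
    Commute x z := by
  show x * z = z * x
  calc x * z = (x * z * x⁻¹) * x := by group
    _ = z * x := by rw [h]

theorem iso_conj_of_commute {G : Type*} [Group G] {x z : G} (h : Commute x z) :
    x * z * x⁻¹ = z := by
  rw [h.eq, mul_inv_cancel_right]

theorem iso_conj_of_commute' {G : Type*} [Group G] {x z : G} (h : Commute x z) :
    x⁻¹ * z * x = z := by
  rw [mul_assoc, ← h.eq, inv_mul_cancel_left]

/-- Sylow's theorem inside a centralizer: a `p`-subgroup centralizing `v` is conjugate, by an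
element centralizing `v`, into any Sylow `p`-subgroup of the whole group that centralizes `v`. -/
theorem iso_exists_conj {G : Type*} [Group G] [Finite G] {p : ℕ} [Fact p.Prime] (v : G)
    (P : Sylow p G) (hP : ∀ x ∈ (P : Subgroup G), Commute x v) (V : Subgroup G)
    (hV : IsPGroup p V) (hVc : ∀ x ∈ V, Commute x v) :
    ∃ d : G, Commute d v ∧ ∀ x ∈ V, d⁻¹ * x * d ∈ (P : Subgroup G) := by
  have hmemH : ∀ x : G, Commute x v → x ∈ Subgroup.centralizer ({v} : Set G) := by
    intro x hx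
    rw [Subgroup.mem_centralizer_iff]
    intro y hy
    rw [Set.mem_singleton_iff] at hy
    rw [hy]
    exact hx.eq.symm
  have hPH : (P : Subgroup G) ≤ Subgroup.centralizer ({v} : Set G) := fun x hx =>
    hmemH x (hP x hx)
  have hV' : IsPGroup p (V.subgroupOf (Subgroup.centralizer ({v} : Set G))) :=
    hV.comap_of_injective _ (Subgroup.subtype_injective _)
  obtain ⟨R, hR⟩ := hV'.exists_le_sylow
  obtain ⟨h, hh⟩ := MulAction.exists_smul_eq (Subgroup.centralizer ({v} : Set G))
    (P.subtype hPH) R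
  refine ⟨(h : G), ?_, ?_⟩
  · have h3 := h.2
    rw [Subgroup.mem_centralizer_iff] at h3
    exact (h3 v rfl).symm
  · intro x hx
    have h1 : (⟨x, hmemH x (hVc x hx)⟩ : Subgroup.centralizer ({v} : Set G)) ∈
        (R : Subgroup (Subgroup.centralizer ({v} : Set G))) :=
      hR (Subgroup.mem_subgroupOf.mpr hx)
    rw [← hh, iso_mem_smul_sylow, Sylow.coe_subtype, Subgroup.mem_subgroupOf] at h1
    exact h1

/-- An element of the normalizer of `S` fixes the involution of a cyclic characteristic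
subgroup of `S`. -/
theorem iso_normalizer_fixes {G : Type*} [Group G] [Finite G] (S : Subgroup G)
    (C : Subgroup ↥S) (hCc : IsCyclic ↥C) (hCh : C.Characteristic)
    (c : ↥S) (hc : c ∈ C) (hc2 : orderOf c = 2) (n : G)
    (hn : n ∈ Subgroup.normalizer (S : Set G)) : n * (c : G) * n⁻¹ = (c : G) := by
  have hmem : ∀ s : G, s ∈ S → n * s * n⁻¹ ∈ S := fun s hs =>
    (Subgroup.mem_normalizer_iff.mp hn s).mp hs
  have hmem' : ∀ s : G, s ∈ S → n⁻¹ * s * n ∈ S := fun s hs => by
    refine (Subgroup.mem_normalizer_iff.mp hn (n⁻¹ * s * n)).mpr ?_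
    have e : n * (n⁻¹ * s * n) * n⁻¹ = s := by group
    rw [e]; exact hs
  obtain ⟨φ, hφ⟩ : ∃ φ : ↥S ≃* ↥S, ∀ s : ↥S, ((φ s : ↥S) : G) = n * s * n⁻¹ :=
    ⟨{ toFun := fun s => ⟨n * s * n⁻¹, hmem s s.2⟩
       invFun := fun s => ⟨n⁻¹ * s * n, hmem' s s.2⟩
       left_inv := fun s => by ext; simp [mul_assoc]
       right_inv := fun s => by ext; simp [mul_assoc]
       map_mul' := fun s t => by ext; simp [mul_assoc] }, fun s => rfl⟩
  have h1 : φ c ∈ C := (Subgroup.characteristic_iff_map_le.mp hCh) φ ⟨c, hc, rfl⟩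
  have h2 : orderOf (φ c) = 2 := by
    rw [← hc2]; exact orderOf_injective φ.toMonoidHom φ.injective c
  have h3 : (⟨φ c, h1⟩ : ↥C) = ⟨c, hc⟩ := by
    apply iso_unique_involution
    · rw [Subgroup.orderOf_mk]; exact h2
    · rw [Subgroup.orderOf_mk]; exact hc2
  have h4 : φ c = c := congrArg Subtype.val h3
  rw [← hφ c, h4]

/-- If any two distinct Sylow 2-subgroups meet inside the centre of some Sylow 2-subgroup, the
involution of a cyclic characteristic subgroup of a Sylow 2-subgroup is isolated. -/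
theorem iso_isolated_of_sylow_inter {G : Type*} [Group G] [Finite G]
    (hCI : ∀ S T : Sylow 2 G, S ≠ T → ∃ U : Sylow 2 G,
      (S : Subgroup G) ⊓ (T : Subgroup G) ≤
        (Subgroup.center ↥(U : Subgroup G)).map (U : Subgroup G).subtype)
    (S : Sylow 2 G) (C : Subgroup ↥(S : Subgroup G)) (hCc : IsCyclic ↥C)
    (hCh : C.Characteristic) (c : ↥(S : Subgroup G)) (hc : c ∈ C) (hc2 : orderOf c = 2) :
    Cfsg.IsIsolatedInvolution (c : G) := by
  obtain ⟨z, hz⟩ : ∃ z : G, z = (c : G) := ⟨_, rfl⟩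
  rw [← hz]
  have hz2 : orderOf z = 2 := by
    rw [hz, Subgroup.orderOf_coe]; exact hc2
  have hzS : z ∈ (S : Subgroup G) := by rw [hz]; exact c.2
  have hN : ∀ n : G, n ∈ Subgroup.normalizer ((S : Subgroup G) : Set G) →
      n * z * n⁻¹ = z := by
    intro n hn
    rw [hz]
    exact iso_normalizer_fixes (S : Subgroup G) C hCc hCh c hc hc2 n hn
  have hL3 : ∀ x y : G, x • S = y • S → x * z * x⁻¹ = y * z * y⁻¹ := by
    intro x y hxy
    have h1 : (y⁻¹ * x) • S = S := by rw [mul_smul, hxy, inv_smul_smul]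
    have h2 := hN _ (Sylow.smul_eq_iff_mem_normalizer.mp h1)
    have h3 : x * z * x⁻¹ = y * ((y⁻¹ * x) * z * (y⁻¹ * x)⁻¹) * y⁻¹ := by group
    rw [h3, h2]
  have hcent : ∀ g : G, ∀ x ∈ ((g • S : Sylow 2 G) : Subgroup G),
      Commute x (g * z * g⁻¹) := by
    intro g x hx
    rw [iso_mem_smul_sylow] at hx
    have h1 := hN _ (Subgroup.le_normalizer hx)
    show x * (g * z * g⁻¹) = g * z * g⁻¹ * x
    have h2 : x * (g * z * g⁻¹) = g * ((g⁻¹ * x * g) * z * (g⁻¹ * x * g)⁻¹) * g⁻¹ * x := by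
      group
    rw [h2, h1]
  have hSz : ∀ x ∈ (S : Subgroup G), Commute x z := fun x hx =>
    iso_commute_of_conj (hN x (Subgroup.le_normalizer hx))
  refine ⟨hz2, ?_⟩
  intro g hcomm
  by_contra hne
  obtain ⟨w, hw⟩ : ∃ w : G, w = g * z * g⁻¹ := ⟨_, rfl⟩
  rw [← hw] at hcomm hne
  have hw2 : orderOf w = 2 := by
    have hs : SemiconjBy g z w := by
      show g * z = w * g
      rw [hw]; group
    rw [← SemiconjBy.orderOf_eq g hs]; exact hz2
  have hgSw : ∀ x ∈ ((g • S : Sylow 2 G) : Subgroup G), Commute x w := by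
    intro x hx; rw [hw]; exact hcent g x hx
  have hwgS : w ∈ ((g • S : Sylow 2 G) : Subgroup G) := by
    rw [iso_mem_smul_sylow, hw]
    have e : g⁻¹ * (g * z * g⁻¹) * g = z := by group
    rw [e]; exact hzS
  have hpz : IsPGroup 2 (Subgroup.zpowers z) :=
    IsPGroup.of_card (n := 1) (by rw [Nat.card_zpowers, hz2]; rfl)
  have hpw : IsPGroup 2 (Subgroup.zpowers w) :=
    IsPGroup.of_card (n := 1) (by rw [Nat.card_zpowers, hw2]; rfl)
  obtain ⟨b, hb, hbV⟩ := iso_exists_conj z S hSz (Subgroup.zpowers w) hpw (fun x hx => by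
    obtain ⟨k, rfl⟩ := Subgroup.mem_zpowers_iff.mp hx
    exact hcomm.symm.zpow_left k)
  obtain ⟨a, ha, haV⟩ := iso_exists_conj w (g • S) hgSw (Subgroup.zpowers z) hpz (fun x hx => by
    obtain ⟨k, rfl⟩ := Subgroup.mem_zpowers_iff.mp hx
    exact hcomm.zpow_left k)
  have hzT : z ∈ ((b • S : Sylow 2 G) : Subgroup G) := by
    rw [iso_mem_smul_sylow, iso_conj_of_commute' hb]; exact hzS
  have hwT : w ∈ ((b • S : Sylow 2 G) : Subgroup G) := by
    rw [iso_mem_smul_sylow]; exact hbV w (Subgroup.mem_zpowers w)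
  have hzT' : z ∈ (((a * g) • S : Sylow 2 G) : Subgroup G) := by
    rw [mul_smul, iso_mem_smul_sylow]; exact haV z (Subgroup.mem_zpowers z)
  have hwT' : w ∈ (((a * g) • S : Sylow 2 G) : Subgroup G) := by
    rw [mul_smul, iso_mem_smul_sylow, iso_conj_of_commute' ha]; exact hwgS
  have hagz : a * g * z * (a * g)⁻¹ = w := by
    have e : a * g * z * (a * g)⁻¹ = a * (g * z * g⁻¹) * a⁻¹ := by group
    rw [e, ← hw, iso_conj_of_commute ha]
  by_cases hTT : b • S = (a * g) • S
  · apply hne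
    have h1 := hL3 b (a * g) hTT
    rw [iso_conj_of_commute hb, hagz] at h1
    exact h1.symm
  · obtain ⟨U, hU⟩ := hCI (b • S) ((a * g) • S) hTT
    have hcenter : ∀ y : G, y ∈ (Subgroup.center ↥(U : Subgroup G)).map
        (U : Subgroup G).subtype → ∀ x ∈ (U : Subgroup G), Commute x y := by
      rintro y ⟨y', hy'c, rfl⟩ x hx
      have h5 := Subgroup.mem_center_iff.mp hy'c ⟨x, hx⟩
      exact congrArg Subtype.val h5
    have hzU := hcenter z (hU ⟨hzT, hzT'⟩)
    have hwU := hcenter w (hU ⟨hwT, hwT'⟩)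
    obtain ⟨d, hd, hdV⟩ := iso_exists_conj z S hSz (U : Subgroup G) U.isPGroup' hzU
    have hUd : d • S = U := by
      have hle : (U : Subgroup G) ≤ ((d • S : Sylow 2 G) : Subgroup G) := fun x hx => by
        rw [iso_mem_smul_sylow]; exact hdV x hx
      exact Sylow.ext (U.is_maximal' (d • S).isPGroup' hle)
    obtain ⟨e, he, heV⟩ := iso_exists_conj w (g • S) hgSw (U : Subgroup G) U.isPGroup' hwU
    have hUe : (e * g) • S = U := by
      have hle : (U : Subgroup G) ≤ (((e * g) • S : Sylow 2 G) : Subgroup G) := fun x hx => by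
        rw [mul_smul, iso_mem_smul_sylow]; exact heV x hx
      exact Sylow.ext (U.is_maximal' ((e * g) • S).isPGroup' hle)
    have h1 := hL3 d (e * g) (by rw [hUd, hUe])
    have hegz : e * g * z * (e * g)⁻¹ = w := by
      have e1 : e * g * z * (e * g)⁻¹ = e * (g * z * g⁻¹) * e⁻¹ := by group
      rw [e1, ← hw, iso_conj_of_commute he]
    rw [iso_conj_of_commute hd, hegz] at h1
    exact hne h1.symm

end Cfsg.Agent.Lib.Helper5
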