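import Mathlib
import Cfsg.Prelude.Def_TwoFusion
import Cfsg.Agent.Lib.Helper5.IsoInv

set_option autoImplicit false

namespace Cfsg.Agent.Lib.Helper5

open scoped Pointwise

/-- If `A` normalizes `H`, every element of `H ⊔ A` is a product `h * a`. -/
theorem sc_exists_mul {G : Type*} [Group G] (H A : Subgroup G)
    (hAH : A ≤ Subgroup.normalizer (H : Set G)) (k : G) (hk : k ∈ H ⊔ A) :
    ∃ h ∈ H, ∃ a ∈ A, k = h * a := by
  have h1 : k ∈ ((H ⊔ A : Subgroup G) : Set G) := hk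
  rw [Subgroup.coe_mul_of_right_le_normalizer_left H A hAH] at h1
  obtain ⟨h, hh, a, ha, rfl⟩ := Set.mem_mul.mp h1
  exact ⟨h, hh, a, ha, rfl⟩

theorem sc_conj_mem {G : Type*} [Group G] (H : Subgroup G) (a : G)
    (ha : a ∈ Subgroup.normalizer (H : Set G)) (h : G) (hh : h ∈ H) : a * h * a⁻¹ ∈ H :=
  (Subgroup.mem_normalizer_iff.mp ha h).mp hh

/-- If `A` normalizes `H`, `A ⊓ H = ⊥`, and a conjugate of `a ∈ A` by `a1 * h1` lies in `A`, then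
`h1` centralizes `a`. -/
theorem sc_fix_of_conj_mem {G : Type*} [Group G] (A H : Subgroup G)
    (hAH : A ≤ Subgroup.normalizer (H : Set G)) (hdisj : A ⊓ H = ⊥)
    (a : G) (ha : a ∈ A) (a1 : G) (ha1 : a1 ∈ A) (h1 : G) (hh1 : h1 ∈ H)
    (hmem : (a1 * h1) * a * (a1 * h1)⁻¹ ∈ A) : h1 * a * h1⁻¹ = a := by
  have h2 : h1 * a * h1⁻¹ ∈ A := by
    have h3 : h1 * a * h1⁻¹ = a1⁻¹ * ((a1 * h1) * a * (a1 * h1)⁻¹) * a1 := by group
    rw [h3]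
    exact A.mul_mem (A.mul_mem (A.inv_mem ha1) hmem) ha1
  have h4 : h1 * a * h1⁻¹ * a⁻¹ ∈ H := by
    have h5 : h1 * a * h1⁻¹ * a⁻¹ = h1 * (a * h1⁻¹ * a⁻¹) := by group
    rw [h5]
    exact H.mul_mem hh1 (sc_conj_mem H a (hAH ha) _ (H.inv_mem hh1))
  have h6 : h1 * a * h1⁻¹ * a⁻¹ ∈ A ⊓ H :=
    Subgroup.mem_inf.mpr ⟨A.mul_mem h2 (A.inv_mem ha), h4⟩
  rw [hdisj, Subgroup.mem_bot] at h6
  exact mul_inv_eq_one.mp h6

theorem sc_isPGroup_zpowers {G : Type*} [Group G] {p : ℕ} (x : G) (n : ℕ)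
    (hx : x ^ p ^ n = 1) : IsPGroup p (Subgroup.zpowers x) := by
  intro y
  obtain ⟨i, hi⟩ := Subgroup.mem_zpowers_iff.mp y.2
  refine ⟨n, ?_⟩
  apply Subtype.ext
  rw [Subgroup.coe_pow, ← hi, Subgroup.coe_one, ← zpow_natCast, ← zpow_mul, mul_comm, zpow_mul,
    zpow_natCast, hx, one_zpow]

theorem sc_isPGroup_sup_zpowers {G : Type*} [Group G] (x y : G) (hxy : Commute x y)
    (hx : IsPGroup 2 (Subgroup.zpowers x)) (hy : IsPGroup 2 (Subgroup.zpowers y)) :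
    IsPGroup 2 (Subgroup.zpowers x ⊔ Subgroup.zpowers y : Subgroup G) := by
  apply IsPGroup.to_sup_of_normal_right' hx hy
  rw [Subgroup.zpowers_le]
  apply Subgroup.centralizer_le_normalizer
  rw [Subgroup.mem_centralizer_iff]
  intro w hw
  obtain ⟨i, rfl⟩ := Subgroup.mem_zpowers_iff.mp hw
  exact (hxy.zpow_right i).eq.symm

/-- Fusion fact: if `A` is strongly closed in a Sylow `2`-subgroup, normalizes `H` and meets it
trivially, then an `H`-conjugate of `a ∈ A` lying in a common `2`-subgroup of `H ⊔ A` with `a`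
equals `a`. -/
theorem sc_fusion {G : Type*} [Group G] [Finite G] (S : Sylow 2 G) (A : Subgroup G)
    (hA : Cfsg.IsStronglyClosed A (S : Subgroup G)) (H : Subgroup G)
    (hAH : A ≤ Subgroup.normalizer (H : Set G)) (hdisj : A ⊓ H = ⊥)
    (P : Subgroup G) (hP : IsPGroup 2 P) (hPK : P ≤ H ⊔ A)
    (a : G) (ha : a ∈ A) (haP : a ∈ P) (h : G) (hh : h ∈ H) (hhP : h * a * h⁻¹ ∈ P) :
    h * a * h⁻¹ = a := by
  classical
  obtain ⟨K, hK⟩ : ∃ K : Subgroup G, K = H ⊔ A := ⟨_, rfl⟩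
  have hAK : A ≤ K := hK ▸ le_sup_right
  have hPK' : P ≤ K := hK ▸ hPK
  have hA2 : IsPGroup 2 A := S.isPGroup'.to_le hA.1
  obtain ⟨T, hT⟩ := (hA2.comap_subtype (K := K)).exists_le_sylow
  obtain ⟨T2, hT2⟩ := (hP.comap_subtype (K := K)).exists_le_sylow
  obtain ⟨k, hk⟩ := MulAction.exists_smul_eq K T T2
  obtain ⟨S2, hS2⟩ := (T.isPGroup'.map K.subtype).exists_le_sylow
  obtain ⟨g, hg⟩ := MulAction.exists_smul_eq G S S2
  have hTS : ∀ t : K, t ∈ T → g⁻¹ * (t : G) * g ∈ (S : Subgroup G) := by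
    intro t ht
    have h1 : (t : G) ∈ (S2 : Subgroup G) := hS2 (Subgroup.mem_map.mpr ⟨t, ht, rfl⟩)
    rw [← hg] at h1
    exact (iso_mem_smul_sylow g S _).mp h1
  have hgA : ∀ x ∈ A, g⁻¹ * x * g ∈ A := by
    intro x hx
    have h1 : (⟨x, hAK hx⟩ : K) ∈ T := hT (Subgroup.mem_subgroupOf.mpr hx)
    have h2 := hTS _ h1
    have h3 := hA.2 x hx g⁻¹ (by rw [inv_inv]; exact h2)
    rw [inv_inv] at h3
    exact h3
  have hgA' : ∀ y ∈ A, g * y * g⁻¹ ∈ A := by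
    obtain ⟨f, hf⟩ : ∃ f : A → A, ∀ x : A, (f x : G) = g⁻¹ * (x : G) * g :=
      ⟨fun x => ⟨g⁻¹ * x * g, hgA x x.2⟩, fun x => rfl⟩
    have hinj : Function.Injective f := by
      intro x y hxy
      have h1 := congrArg (Subtype.val) hxy
      rw [hf, hf] at h1
      apply Subtype.ext
      exact mul_left_cancel (mul_right_cancel h1)
    have hsurj := Finite.injective_iff_surjective.mp hinj
    intro y hy
    obtain ⟨x, hx⟩ := hsurj ⟨y, hy⟩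
    have h1 := congrArg Subtype.val hx
    rw [hf] at h1
    have h2 : g * y * g⁻¹ = (x : G) := by
      have h3 : y = g⁻¹ * (x : G) * g := h1.symm
      rw [h3]; group
    rw [h2]; exact x.2
  have hAT : ∀ x ∈ A, ∀ y : G, (∃ t ∈ T, (t : G) = y * x * y⁻¹) → y * x * y⁻¹ ∈ A := by
    intro x hx y hy
    obtain ⟨t, ht, hty⟩ := hy
    have h1 := hTS t ht
    have h2 : (g⁻¹ * y) * x * (g⁻¹ * y)⁻¹ ∈ (S : Subgroup G) := by
      have h3 : (g⁻¹ * y) * x * (g⁻¹ * y)⁻¹ = g⁻¹ * (y * x * y⁻¹) * g := by group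
      rw [h3, ← hty]; exact h1
    have h4 := hA.2 x hx (g⁻¹ * y) h2
    have h5 := hgA' _ h4
    have h6 : g * ((g⁻¹ * y) * x * (g⁻¹ * y)⁻¹) * g⁻¹ = y * x * y⁻¹ := by group
    rw [h6] at h5; exact h5
  have hPT : ∀ x : G, x ∈ P → ∃ t ∈ T, (t : G) = (k : G)⁻¹ * x * (k : G) := by
    intro x hx
    have h1 : (⟨x, hPK' hx⟩ : K) ∈ (T2 : Subgroup K) := hT2 (Subgroup.mem_subgroupOf.mpr hx)
    rw [← hk] at h1
    exact ⟨_, (iso_mem_smul_sylow k T _).mp h1, rfl⟩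
  obtain ⟨h0, hh0, a0, ha0, hk0⟩ := sc_exists_mul H A hAH (k : G) (hK ▸ k.2)
  have e1 : (a0⁻¹ * h0⁻¹) * a * (a0⁻¹ * h0⁻¹)⁻¹ = (k : G)⁻¹ * a * (k : G) := by
    rw [hk0]; group
  have e2 : (a0⁻¹ * (h0⁻¹ * h)) * a * (a0⁻¹ * (h0⁻¹ * h))⁻¹ =
      (k : G)⁻¹ * (h * a * h⁻¹) * (k : G) := by
    rw [hk0]; group
  have h7 : (a0⁻¹ * h0⁻¹) * a * (a0⁻¹ * h0⁻¹)⁻¹ ∈ A := by
    apply hAT a ha
    rw [e1]; exact hPT a haP
  have h8 : (a0⁻¹ * (h0⁻¹ * h)) * a * (a0⁻¹ * (h0⁻¹ * h))⁻¹ ∈ A := by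
    apply hAT a ha
    rw [e2]; exact hPT _ hhP
  have h9 := sc_fix_of_conj_mem A H hAH hdisj a ha a0⁻¹ (A.inv_mem ha0) h0⁻¹ (H.inv_mem hh0) h7
  have h10 := sc_fix_of_conj_mem A H hAH hdisj a ha a0⁻¹ (A.inv_mem ha0) (h0⁻¹ * h)
    (H.mul_mem (H.inv_mem hh0) hh) h8
  have h11 : h * a * h⁻¹ = h0 * ((h0⁻¹ * h) * a * (h0⁻¹ * h)⁻¹) * h0⁻¹ := by group
  have h12 : h0 * a * h0⁻¹ = a := by
    calc h0 * a * h0⁻¹ = h0 * (h0⁻¹ * a * h0⁻¹⁻¹) * h0⁻¹ := by rw [h9]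
      _ = a := by group
  rw [h11, h10, h12]

end Cfsg.Agent.Lib.Helper5
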