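import Mathlib
import Cfsg.Agent.Lib.Helper5.IsoInv
import Cfsg.Agent.Lib.Helper5.StrClosed

set_option autoImplicit false

namespace Cfsg.Agent.Lib.Helper5

open scoped Pointwise

/-- Sylow's theorem inside a subgroup `C` containing a Sylow `p`-subgroup `Q` of `G`. -/
theorem tc_exists_conj {G : Type*} [Group G] [Finite G] {p : ℕ} [Fact p.Prime]
    (Q : Sylow p G) (C : Subgroup G) (hQC : (Q : Subgroup G) ≤ C) (V : Subgroup G)
    (hV : IsPGroup p V) (hVC : V ≤ C) :
    ∃ d ∈ C, ∀ x ∈ V, d⁻¹ * x * d ∈ (Q : Subgroup G) := by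
  have hV' : IsPGroup p (V.subgroupOf C) :=
    hV.comap_of_injective _ (Subgroup.subtype_injective _)
  obtain ⟨R, hR⟩ := hV'.exists_le_sylow
  obtain ⟨h, hh⟩ := MulAction.exists_smul_eq C (Q.subtype hQC) R
  refine ⟨(h : G), h.2, ?_⟩
  intro x hx
  have h1 : (⟨x, hVC hx⟩ : C) ∈ (R : Subgroup C) := hR (Subgroup.mem_subgroupOf.mpr hx)
  rw [← hh, iso_mem_smul_sylow, Sylow.coe_subtype, Subgroup.mem_subgroupOf] at h1
  exact h1

/-- The elements conjugating `c` to `c` or to `c⁻¹`. -/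
def tcInvNormalizer {G : Type*} [Group G] (c : G) : Subgroup G where
  carrier := {l | l * c * l⁻¹ = c ∨ l * c * l⁻¹ = c⁻¹}
  one_mem' := by
    left
    group
  mul_mem' := by
    intro a b ha hb
    have e : (a * b) * c * (a * b)⁻¹ = a * (b * c * b⁻¹) * a⁻¹ := by group
    show (a * b) * c * (a * b)⁻¹ = c ∨ (a * b) * c * (a * b)⁻¹ = c⁻¹
    rw [e]
    rcases hb with hb | hb
    · rw [hb]
      exact ha
    · rw [hb]
      have e2 : a * c⁻¹ * a⁻¹ = (a * c * a⁻¹)⁻¹ := by group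
      rw [e2]
      rcases ha with ha | ha
      · right
        rw [ha]
      · left
        rw [ha, inv_inv]
  inv_mem' := by
    intro a ha
    show a⁻¹ * c * a⁻¹⁻¹ = c ∨ a⁻¹ * c * a⁻¹⁻¹ = c⁻¹
    rcases ha with ha | ha
    · left
      have e1 : a⁻¹ * c * a⁻¹⁻¹ = a⁻¹ * (a * c * a⁻¹) * a := by rw [ha, inv_inv]
      rw [e1]
      group
    · right
      have e1 : a⁻¹ * c * a⁻¹⁻¹ = (a⁻¹ * c⁻¹ * a)⁻¹ := by group
      have e2 : a⁻¹ * c⁻¹ * a = c := by
        rw [← ha]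
        group
      rw [e1, e2]

theorem tc_mem_invNormalizer {G : Type*} [Group G] (c l : G) :
    l ∈ tcInvNormalizer c ↔ (l * c * l⁻¹ = c ∨ l * c * l⁻¹ = c⁻¹) := Iff.rfl

/-- Elements of a `2`-group have `2`-power order. -/
theorem tc_order_of_mem {G : Type*} [Group G] (S : Subgroup G) (hS : IsPGroup 2 S) (g : G)
    (hg : g ∈ S) : ∃ k : ℕ, g ^ 2 ^ k = 1 := by
  obtain ⟨k, hk⟩ := hS ⟨g, hg⟩
  refine ⟨k, ?_⟩
  have := congrArg Subtype.val hk
  simpa using this

theorem tc_orderOf_of_pow {G : Type*} [Group G] (g : G) (k : ℕ) (hk : g ^ 2 ^ k = 1) :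
    ∃ j : ℕ, orderOf g = 2 ^ j := by
  have h1 : orderOf g ∣ 2 ^ k := orderOf_dvd_of_pow_eq_one hk
  obtain ⟨j, _, hj⟩ := (Nat.dvd_prime_pow Nat.prime_two).mp h1
  exact ⟨j, hj⟩

theorem tc_commute_of_conj {G : Type*} [Group G] {d a b : G}
    (h : Commute (d⁻¹ * a * d) (d⁻¹ * b * d)) : Commute a b := by
  have h1 : d⁻¹ * (a * b) * d = d⁻¹ * (b * a) * d := by
    calc d⁻¹ * (a * b) * d = (d⁻¹ * a * d) * (d⁻¹ * b * d) := by group
      _ = (d⁻¹ * b * d) * (d⁻¹ * a * d) := h.eq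
      _ = d⁻¹ * (b * a) * d := by group
  exact mul_left_cancel (mul_right_cancel h1)

/-- Step I: if every `2`-element is centralized by a Sylow `2`-subgroup, then two involutions
whose product is a `2`-element commute. -/
theorem tc_invol_commute {G : Type*} [Group G] [Finite G]
    (hc : ∀ x : G, (∃ k : ℕ, orderOf x = 2 ^ k) →
      ∃ Q : Sylow 2 G, (Q : Subgroup G) ≤ Subgroup.centralizer ({x} : Set G))
    (u x : G) (hu : u * u = 1) (hx : x * x = 1) (hux : ∃ k : ℕ, orderOf (u * x) = 2 ^ k) :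
    Commute u x := by
  have : Fact (Nat.Prime 2) := ⟨Nat.prime_two⟩
  obtain ⟨Q, hQ⟩ := hc (u * x) hux
  have hQc : ∀ q ∈ (Q : Subgroup G), Commute q (u * x) := by
    intro q hq
    have h1 := hQ hq
    rw [Subgroup.mem_centralizer_iff] at h1
    exact (h1 (u * x) rfl).symm
  have hQL : (Q : Subgroup G) ≤ tcInvNormalizer (u * x) := by
    intro q hq
    rw [tc_mem_invNormalizer]
    left
    exact iso_conj_of_commute (hQc q hq)
  have hu' : u⁻¹ = u := inv_eq_of_mul_eq_one_left hu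
  have hx' : x⁻¹ = x := inv_eq_of_mul_eq_one_left hx
  have huL : u ∈ tcInvNormalizer (u * x) := by
    rw [tc_mem_invNormalizer]
    right
    rw [mul_inv_rev, hu', hx', ← mul_assoc u u x, hu, one_mul]
  have hpu : IsPGroup 2 (Subgroup.zpowers u) := by
    apply sc_isPGroup_zpowers u 1
    rw [pow_one, pow_two]
    exact hu
  obtain ⟨d, hdL, hd⟩ := tc_exists_conj Q (tcInvNormalizer (u * x)) hQL (Subgroup.zpowers u) hpu
    (Subgroup.zpowers_le.mpr huL)
  have h1 : Commute (d⁻¹ * u * d) (u * x) := hQc _ (hd u (Subgroup.mem_zpowers u))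
  have h2 : Commute u (d * (u * x) * d⁻¹) := by
    show u * (d * (u * x) * d⁻¹) = d * (u * x) * d⁻¹ * u
    calc u * (d * (u * x) * d⁻¹) = d * ((d⁻¹ * u * d) * (u * x)) * d⁻¹ := by group
      _ = d * ((u * x) * (d⁻¹ * u * d)) * d⁻¹ := by rw [h1.eq]
      _ = d * (u * x) * d⁻¹ * u := by group
  have h3 : Commute u (u * x) := by
    rw [tc_mem_invNormalizer] at hdL
    rcases hdL with h | h
    · rw [h] at h2
      exact h2
    · rw [h] at h2
      have h4 := h2.inv_right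
      rw [inv_inv] at h4
      exact h4
  show u * x = x * u
  have h5 : u * (u * x) = u * (x * u) := by rw [h3.eq, mul_assoc]
  exact mul_left_cancel h5

/-- Key construction: for `a, g` in a Sylow `2`-subgroup with `a` commuting with `g * g`,
conjugate both (inside the centralizer of `g * g`) into a Sylow `2`-subgroup `Q` centralizing
`g` and containing `g`. -/
theorem tc_key {G : Type*} [Group G] [Finite G]
    (hc : ∀ x : G, (∃ k : ℕ, orderOf x = 2 ^ k) →
      ∃ Q : Sylow 2 G, (Q : Subgroup G) ≤ Subgroup.centralizer ({x} : Set G))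
    (S : Sylow 2 G) (a g : G) (ha : a ∈ (S : Subgroup G)) (hg : g ∈ (S : Subgroup G))
    (hag : Commute a (g * g)) :
    ∃ (Q : Sylow 2 G) (d : G), g ∈ (Q : Subgroup G) ∧ (∀ q ∈ (Q : Subgroup G), Commute q g) ∧
      d⁻¹ * a * d ∈ (Q : Subgroup G) ∧ d⁻¹ * g * d ∈ (Q : Subgroup G) ∧ Commute d (g * g) := by
  have : Fact (Nat.Prime 2) := ⟨Nat.prime_two⟩
  obtain ⟨k, hk⟩ := tc_order_of_mem (S : Subgroup G) S.isPGroup' g hg
  obtain ⟨Q, hQ⟩ := hc g (tc_orderOf_of_pow g k hk)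
  have hQg : ∀ q ∈ (Q : Subgroup G), Commute q g := by
    intro q hq
    have h1 := hQ hq
    rw [Subgroup.mem_centralizer_iff] at h1
    exact (h1 g rfl).symm
  have hgQ : g ∈ (Q : Subgroup G) := by
    obtain ⟨d1, hd1, hd1'⟩ := iso_exists_conj g Q hQg (Subgroup.zpowers g)
      (S.isPGroup'.to_le (Subgroup.zpowers_le.mpr hg)) (by
        intro x hx
        obtain ⟨i, rfl⟩ := Subgroup.mem_zpowers_iff.mp hx
        exact (Commute.refl g).zpow_left i)
    have h2 := hd1' g (Subgroup.mem_zpowers g)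
    rw [iso_conj_of_commute' hd1] at h2
    exact h2
  have hVp : IsPGroup 2 ((S : Subgroup G) ⊓ Subgroup.centralizer ({g * g} : Set G) : Subgroup G) :=
    S.isPGroup'.to_le inf_le_left
  obtain ⟨d, hd, hd'⟩ := iso_exists_conj (g * g) Q (fun q hq => (hQg q hq).mul_right (hQg q hq))
    ((S : Subgroup G) ⊓ Subgroup.centralizer ({g * g} : Set G)) hVp (by
      intro x hx
      have h1 := (Subgroup.mem_inf.mp hx).2
      rw [Subgroup.mem_centralizer_iff] at h1
      exact (h1 (g * g) rfl).symm)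
  have hmem : ∀ y : G, y ∈ (S : Subgroup G) → Commute y (g * g) →
      y ∈ ((S : Subgroup G) ⊓ Subgroup.centralizer ({g * g} : Set G) : Subgroup G) := by
    intro y hy hyc
    refine Subgroup.mem_inf.mpr ⟨hy, ?_⟩
    rw [Subgroup.mem_centralizer_iff]
    intro z hz
    rw [Set.mem_singleton_iff] at hz
    rw [hz]
    exact hyc.eq.symm
  exact ⟨Q, d, hgQ, hQg, hd' a (hmem a ha hag),
    hd' g (hmem g hg ((Commute.refl g).mul_right (Commute.refl g))), hd⟩

/-- Common step: if `a` commutes with `g * g` then `a` commutes with `g`, provided the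
involutions of any Sylow `2`-subgroup commute with the conjugates of `a` in it. -/
theorem tc_step {G : Type*} [Group G] [Finite G]
    (hc : ∀ x : G, (∃ k : ℕ, orderOf x = 2 ^ k) →
      ∃ Q : Sylow 2 G, (Q : Subgroup G) ≤ Subgroup.centralizer ({x} : Set G))
    (S : Sylow 2 G) (a g : G) (ha : a ∈ (S : Subgroup G)) (hg : g ∈ (S : Subgroup G))
    (hag : Commute a (g * g))
    (hkey : ∀ (Q : Sylow 2 G) (u d : G), u ∈ (Q : Subgroup G) → u * u = 1 →
      d⁻¹ * a * d ∈ (Q : Subgroup G) → Commute u (d⁻¹ * a * d)) :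
    Commute a g := by
  obtain ⟨Q, d, hgQ, hQg, haQ, hgQ', hd⟩ := tc_key hc S a g ha hg hag
  have hgg : (d⁻¹ * g * d) * (d⁻¹ * g * d) = g * g := by
    calc (d⁻¹ * g * d) * (d⁻¹ * g * d) = d⁻¹ * (g * g) * d := by group
      _ = g * g := iso_conj_of_commute' hd
  have hc1 : Commute (d⁻¹ * g * d) g := hQg _ hgQ'
  have huu : (d⁻¹ * g * d * g⁻¹) * (d⁻¹ * g * d * g⁻¹) = 1 := by
    have hc2 : Commute (d⁻¹ * g * d) g⁻¹ := hc1.inv_right
    calc (d⁻¹ * g * d * g⁻¹) * (d⁻¹ * g * d * g⁻¹)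
        = (d⁻¹ * g * d) * (g⁻¹ * (d⁻¹ * g * d)) * g⁻¹ := by group
      _ = (d⁻¹ * g * d) * ((d⁻¹ * g * d) * g⁻¹) * g⁻¹ := by rw [hc2.eq]
      _ = ((d⁻¹ * g * d) * (d⁻¹ * g * d)) * g⁻¹ * g⁻¹ := by group
      _ = 1 := by
        rw [hgg]
        group
  have huQ : d⁻¹ * g * d * g⁻¹ ∈ (Q : Subgroup G) :=
    (Q : Subgroup G).mul_mem hgQ' ((Q : Subgroup G).inv_mem hgQ)
  have h1 : Commute (d⁻¹ * g * d * g⁻¹) (d⁻¹ * a * d) := hkey Q _ d huQ huu haQ
  have h2 : Commute g (d⁻¹ * a * d) := (hQg _ haQ).symm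
  have h3 : Commute (d⁻¹ * g * d) (d⁻¹ * a * d) := by
    have h4 : d⁻¹ * g * d = (d⁻¹ * g * d * g⁻¹) * g := by group
    rw [h4]
    exact h1.mul_left h2
  exact tc_commute_of_conj h3.symm

/-- Step II: the involutions of a Sylow `2`-subgroup are central in it. -/
theorem tc_invol_central {G : Type*} [Group G] [Finite G]
    (hc : ∀ x : G, (∃ k : ℕ, orderOf x = 2 ^ k) →
      ∃ Q : Sylow 2 G, (Q : Subgroup G) ≤ Subgroup.centralizer ({x} : Set G))
    (S : Sylow 2 G) (x : G) (hx : x ∈ (S : Subgroup G)) (hxx : x * x = 1) :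
    ∀ (n : ℕ) (g : G), g ∈ (S : Subgroup G) → g ^ 2 ^ n = 1 → Commute x g := by
  intro n
  induction n with
  | zero =>
    intro g _ hgn
    rw [pow_zero, pow_one] at hgn
    rw [hgn]
    exact Commute.one_right x
  | succ n ih =>
    intro g hg hgn
    have h2 : (g * g) ^ 2 ^ n = 1 := by
      rw [← pow_two, ← pow_mul, ← pow_succ']
      exact hgn
    have hcomm : Commute x (g * g) := ih (g * g) ((S : Subgroup G).mul_mem hg hg) h2
    apply tc_step hc S x g hx hg hcomm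
    intro Q u d huQ huu hxQ
    have hxx' : (d⁻¹ * x * d) * (d⁻¹ * x * d) = 1 := by
      calc (d⁻¹ * x * d) * (d⁻¹ * x * d) = d⁻¹ * (x * x) * d := by group
        _ = 1 := by
          rw [hxx]
          group
    obtain ⟨k, hk⟩ := tc_order_of_mem (Q : Subgroup G) Q.isPGroup' _
      ((Q : Subgroup G).mul_mem huQ hxQ)
    exact tc_invol_commute hc u _ huu hxx' (tc_orderOf_of_pow _ k hk)

/-- Step III: any two elements of a Sylow `2`-subgroup commute. -/
theorem tc_sylow_comm {G : Type*} [Group G] [Finite G]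
    (hc : ∀ x : G, (∃ k : ℕ, orderOf x = 2 ^ k) →
      ∃ Q : Sylow 2 G, (Q : Subgroup G) ≤ Subgroup.centralizer ({x} : Set G))
    (S : Sylow 2 G) (a : G) (ha : a ∈ (S : Subgroup G)) :
    ∀ (n : ℕ) (g : G), g ∈ (S : Subgroup G) → g ^ 2 ^ n = 1 → Commute a g := by
  intro n
  induction n with
  | zero =>
    intro g _ hgn
    rw [pow_zero, pow_one] at hgn
    rw [hgn]
    exact Commute.one_right a
  | succ n ih =>
    intro g hg hgn
    have h2 : (g * g) ^ 2 ^ n = 1 := by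
      rw [← pow_two, ← pow_mul, ← pow_succ']
      exact hgn
    have hcomm : Commute a (g * g) := ih (g * g) ((S : Subgroup G).mul_mem hg hg) h2
    apply tc_step hc S a g ha hg hcomm
    intro Q u d huQ huu haQ
    obtain ⟨k, hk⟩ := tc_order_of_mem (Q : Subgroup G) Q.isPGroup' _ haQ
    exact tc_invol_central hc Q u huQ huu k _ haQ hk

/-- If every `2`-element is centralized by a Sylow `2`-subgroup, the Sylow `2`-subgroups are
abelian. -/
theorem tc_sylow_abelian {G : Type*} [Group G] [Finite G]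
    (hc : ∀ x : G, (∃ k : ℕ, orderOf x = 2 ^ k) →
      ∃ Q : Sylow 2 G, (Q : Subgroup G) ≤ Subgroup.centralizer ({x} : Set G))
    (S : Sylow 2 G) (a g : G) (ha : a ∈ (S : Subgroup G)) (hg : g ∈ (S : Subgroup G)) :
    a * g = g * a := by
  obtain ⟨k, hk⟩ := tc_order_of_mem (S : Subgroup G) S.isPGroup' g hg
  exact (tc_sylow_comm hc S a ha k g hg hk).eq

/-- A subgroup of odd index contains a Sylow `2`-subgroup. -/
theorem tc_sylow_le_of_index {G : Type*} [Group G] [Finite G] (K : Subgroup G)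
    (hK : ¬ 2 ∣ K.index) : ∃ Q : Sylow 2 G, (Q : Subgroup G) ≤ K := by
  have : Fact (Nat.Prime 2) := ⟨Nat.prime_two⟩
  obtain ⟨P⟩ : Nonempty (Sylow 2 G) := inferInstance
  have hfix := IsPGroup.nonempty_fixed_point_of_prime_not_dvd_card (p := 2)
    (G := (P : Subgroup G)) P.isPGroup' (G ⧸ K) hK
  obtain ⟨q, hq⟩ := hfix
  obtain ⟨g, rfl⟩ := QuotientGroup.mk_surjective q
  have h1 : ∀ y ∈ (P : Subgroup G), g⁻¹ * y * g ∈ K := by
    intro y hy
    have h2 := hq ⟨y⁻¹, (P : Subgroup G).inv_mem hy⟩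
    have h3 : ((y⁻¹ * g : G) : G ⧸ K) = (g : G ⧸ K) := h2
    rw [QuotientGroup.eq] at h3
    have h4 : (y⁻¹ * g)⁻¹ * g = g⁻¹ * y * g := by group
    rw [h4] at h3
    exact h3
  refine ⟨g⁻¹ • P, ?_⟩
  intro y hy
  rw [iso_mem_smul_sylow, inv_inv] at hy
  have h5 := h1 _ hy
  have h6 : g⁻¹ * (g * y * g⁻¹) * g = y := by group
  rw [h6] at h5
  exact h5

end Cfsg.Agent.Lib.Helper5
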